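import Cfsg.Agent.H15.NS.HeB.D0

/-! Generated by tools/h15/ns/gen.py (kit tools/h0/tr). -/

set_option maxRecDepth 100000
set_option maxHeartbeats 0

namespace H15.NS.He
open H16 H0.TR
open scoped commutatorElement

theorem res_a : allZ2 (resEnt (wdsP P mW) Tm E EI (nat_lit 2058) (nat_lit 714)) (nat_lit 6) (nat_lit 714) = true := by decide +kernel
theorem y2_10_0 : allZ (matEnt (wdsP H16.PHe.P sW) P (nat_lit 10)) (nat_lit 0) (nat_lit 2058) = true := by decide +kernel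
theorem y2_4_0 : allZ (matEnt (wdsP H16.PHe.P sW) P (nat_lit 4)) (nat_lit 0) (nat_lit 2058) = true := by decide +kernel
theorem y2_0_0 : allZ (matEnt (wdsP H16.PHe.P sW) P (nat_lit 0)) (nat_lit 0) (nat_lit 2058) = true := by decide +kernel
theorem y2_1_0 : allZ (matEnt (wdsP H16.PHe.P sW) P (nat_lit 1)) (nat_lit 0) (nat_lit 2058) = true := by decide +kernel
theorem y2_2_0 : allZ (matEnt (wdsP H16.PHe.P sW) P (nat_lit 2)) (nat_lit 0) (nat_lit 2058) = true := by decide +kernel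
theorem y2_3_0 : allZ (matEnt (wdsP H16.PHe.P sW) P (nat_lit 3)) (nat_lit 0) (nat_lit 2058) = true := by decide +kernel
theorem y2_9_0 : allZ (matEnt (wdsP H16.PHe.P sW) P (nat_lit 9)) (nat_lit 0) (nat_lit 2058) = true := by decide +kernel
theorem gztn7_1_0 : allZ (gztn7.ent P gzth_P gzx_P gzx_P gze_P (nat_lit 12) (nat_lit 1) B gztl0 [gztl1, gztl2, gztl3, gztl4, gztl5, gztl6, gztl7, gztl8, gztl9] (memO gzc0)) (nat_lit 0) (nat_lit 2058) = true := by decide +kernel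
theorem gltn9_1_0 : allZ (gltn9.ent P glth_P glx_P glx_P gle_P (nat_lit 12) (nat_lit 1) B gltl0 [gltl1, gltl2, gltl3, gltl4, gltl5, gltl6, gltl7] (memO glc0)) (nat_lit 0) (nat_lit 2058) = true := by decide +kernel
theorem y2_5_0 : allZ (matEnt (wdsP H16.PHe.P sW) P (nat_lit 5)) (nat_lit 0) (nat_lit 2058) = true := by decide +kernel
theorem y2_6_0 : allZ (matEnt (wdsP H16.PHe.P sW) P (nat_lit 6)) (nat_lit 0) (nat_lit 2058) = true := by decide +kernel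
theorem y2_7_0 : allZ (matEnt (wdsP H16.PHe.P sW) P (nat_lit 7)) (nat_lit 0) (nat_lit 2058) = true := by decide +kernel
theorem y2_8_0 : allZ (matEnt (wdsP H16.PHe.P sW) P (nat_lit 8)) (nat_lit 0) (nat_lit 2058) = true := by decide +kernel
theorem y1_a : allZ2 (permEnt P (nth 0 iv) (nat_lit 2058)) (nat_lit 12) (nat_lit 2058) = true := by decide +kernel
theorem gztl0_e_0 : allZ (dent gztl0 gzth_P (nat_lit 2058)) (nat_lit 0) (nat_lit 2057) = true := by decide +kernel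
theorem y0_0 : allZ (leEnt (wdsP H16.PHe.P sW) H16.PHe.P 11 H16.PHe.B bW) (nat_lit 0) (nat_lit 7) = true := by decide +kernel
theorem y3_1_0 : allZ (extEnt P (nat_lit 11) xW (nat_lit 1)) (nat_lit 0) (nat_lit 2058) = true := by decide +kernel
theorem y3_2_0 : allZ (extEnt P (nat_lit 11) xW (nat_lit 2)) (nat_lit 0) (nat_lit 2058) = true := by decide +kernel
theorem y3_3_0 : allZ (extEnt P (nat_lit 11) xW (nat_lit 3)) (nat_lit 0) (nat_lit 2058) = true := by decide +kernel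
theorem y3_4_0 : allZ (extEnt P (nat_lit 11) xW (nat_lit 4)) (nat_lit 0) (nat_lit 2058) = true := by decide +kernel
theorem y3_5_0 : allZ (extEnt P (nat_lit 11) xW (nat_lit 5)) (nat_lit 0) (nat_lit 2058) = true := by decide +kernel
theorem y3_6_0 : allZ (extEnt P (nat_lit 11) xW (nat_lit 6)) (nat_lit 0) (nat_lit 2058) = true := by decide +kernel
theorem y3_7_0 : allZ (extEnt P (nat_lit 11) xW (nat_lit 7)) (nat_lit 0) (nat_lit 2058) = true := by decide +kernel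
theorem y3_8_0 : allZ (extEnt P (nat_lit 11) xW (nat_lit 8)) (nat_lit 0) (nat_lit 2058) = true := by decide +kernel
theorem y3_10_0 : allZ (extEnt P (nat_lit 11) xW (nat_lit 10)) (nat_lit 0) (nat_lit 2058) = true := by decide +kernel
theorem gltl0_e_0 : allZ (dent gltl0 glth_P (nat_lit 2058)) (nat_lit 0) (nat_lit 2057) = true := by decide +kernel
theorem y3_0_0 : allZ (extEnt P (nat_lit 11) xW (nat_lit 0)) (nat_lit 0) (nat_lit 2058) = true := by decide +kernel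
theorem y3_9_0 : allZ (extEnt P (nat_lit 11) xW (nat_lit 9)) (nat_lit 0) (nat_lit 2058) = true := by decide +kernel
theorem yll0_e_0 : allZ (dent yll0 yl_P (nat_lit 2058)) (nat_lit 0) (nat_lit 2057) = true := by decide +kernel
theorem yll1_e_0 : allZ (dent yll1 yl_P (nat_lit 2058)) (nat_lit 0) (nat_lit 1359) = true := by decide +kernel
theorem gztn5_1_0 : allZ (gztn5.ent P gzth_P gzx_P gzx_P gze_P (nat_lit 12) (nat_lit 1) B gztl1 [gztl2, gztl3, gztl4, gztl5, gztl6, gztl7, gztl8, gztl9] (memO gzc1)) (nat_lit 0) (nat_lit 425) = true := by decide +kernel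
theorem gltn10_1_0 : allZ (gltn10.ent P glth_P glx_P gltn9y871_P gltr10k_P (nat_lit 12) (nat_lit 1) B gltl1 [gltl2, gltl3, gltl4, gltl5, gltl6, gltl7] (fun _ => nat_lit 1)) (nat_lit 0) (nat_lit 272) = true := by decide +kernel
theorem gltn5_1_0 : allZ (gltn5.ent P glth_P glx_P glx_P gle_P (nat_lit 12) (nat_lit 1) B gltl1 [gltl2, gltl3, gltl4, gltl5, gltl6, gltl7] (memO glc1)) (nat_lit 0) (nat_lit 272) = true := by decide +kernel
theorem gztl1_e_0 : allZ (dent gztl1 gzth_P (nat_lit 2058)) (nat_lit 0) (nat_lit 424) = true := by decide +kernel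
theorem gltl1_e_0 : allZ (dent gltl1 glth_P (nat_lit 2058)) (nat_lit 0) (nat_lit 271) = true := by decide +kernel
theorem gz_f8 : (Nat.ble gzc8.K 10 && Nat.ble (topK []) gzc8.K && Nat.beq (gzc8.Pt 0) (gztl8.Pt 0) && Nat.beq (ltAll 2058 [gztl7.Pt 0, gztl6.Pt 0, gztl5.Pt 0, gztl4.Pt 0, gztl3.Pt 0, gztl2.Pt 0, gztl1.Pt 0, gztl0.Pt 0]) 0 && kChk gze_P gzx_P gzc8.K 1 B [gztl7.Pt 0, gztl6.Pt 0, gztl5.Pt 0, gztl4.Pt 0, gztl3.Pt 0, gztl2.Pt 0, gztl1.Pt 0, gztl0.Pt 0]) = true := by decide +kernel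
theorem gz_f7 : (Nat.ble gzc7.K 10 && Nat.ble (topK [gzc8]) gzc7.K && Nat.beq (gzc7.Pt 0) (gztl7.Pt 0) && Nat.beq (ltAll 2058 [gztl6.Pt 0, gztl5.Pt 0, gztl4.Pt 0, gztl3.Pt 0, gztl2.Pt 0, gztl1.Pt 0, gztl0.Pt 0]) 0 && kChk gze_P gzx_P gzc7.K 1 B [gztl6.Pt 0, gztl5.Pt 0, gztl4.Pt 0, gztl3.Pt 0, gztl2.Pt 0, gztl1.Pt 0, gztl0.Pt 0]) = true := by decide +kernel
theorem gl_f7 : (Nat.ble glc7.K 10 && Nat.ble (topK []) glc7.K && Nat.beq (glc7.Pt 0) (gltl7.Pt 0) && Nat.beq (ltAll 2058 [gltl6.Pt 0, gltl5.Pt 0, gltl4.Pt 0, gltl3.Pt 0, gltl2.Pt 0, gltl1.Pt 0, gltl0.Pt 0]) 0 && kChk gle_P glx_P glc7.K 1 B [gltl6.Pt 0, gltl5.Pt 0, gltl4.Pt 0, gltl3.Pt 0, gltl2.Pt 0, gltl1.Pt 0, gltl0.Pt 0]) = true := by decide +kernel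
theorem gz_f5 : (Nat.ble gzc5.K 10 && Nat.ble (topK [gzc7, gzc8]) gzc5.K && Nat.beq (gzc5.Pt 0) (gztl5.Pt 0) && Nat.beq (ltAll 2058 [gztl4.Pt 0, gztl3.Pt 0, gztl2.Pt 0, gztl1.Pt 0, gztl0.Pt 0]) 0 && kChk gze_P gzx_P gzc5.K 1 B [gztl4.Pt 0, gztl3.Pt 0, gztl2.Pt 0, gztl1.Pt 0, gztl0.Pt 0]) = true := by decide +kernel
theorem yll2_e_0 : allZ (dent yll2 yl_P (nat_lit 2058)) (nat_lit 0) (nat_lit 239) = true := by decide +kernel
theorem gz_f4 : (Nat.ble gzc4.K 10 && Nat.ble (topK [gzc5, gzc7, gzc8]) gzc4.K && Nat.beq (gzc4.Pt 0) (gztl4.Pt 0) && Nat.beq (ltAll 2058 [gztl3.Pt 0, gztl2.Pt 0, gztl1.Pt 0, gztl0.Pt 0]) 0 && kChk gze_P gzx_P gzc4.K 1 B [gztl3.Pt 0, gztl2.Pt 0, gztl1.Pt 0, gztl0.Pt 0]) = true := by decide +kernel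
theorem gl_f5 : (Nat.ble glc5.K 10 && Nat.ble (topK [glc7]) glc5.K && Nat.beq (glc5.Pt 0) (gltl5.Pt 0) && Nat.beq (ltAll 2058 [gltl4.Pt 0, gltl3.Pt 0, gltl2.Pt 0, gltl1.Pt 0, gltl0.Pt 0]) 0 && kChk gle_P glx_P glc5.K 1 B [gltl4.Pt 0, gltl3.Pt 0, gltl2.Pt 0, gltl1.Pt 0, gltl0.Pt 0]) = true := by decide +kernel
theorem gl_f4 : (Nat.ble glc4.K 10 && Nat.ble (topK [glc5, glc7]) glc4.K && Nat.beq (glc4.Pt 0) (gltl4.Pt 0) && Nat.beq (ltAll 2058 [gltl3.Pt 0, gltl2.Pt 0, gltl1.Pt 0, gltl0.Pt 0]) 0 && kChk gle_P glx_P glc4.K 1 B [gltl3.Pt 0, gltl2.Pt 0, gltl1.Pt 0, gltl0.Pt 0]) = true := by decide +kernel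
theorem gztn7_0 : (Nat.ble gztl0.K 24 && Nat.beq (ltAll 2058 []) 0 && kChk gze_P gzx_P gztn7.Kn 1 B [] && H16.allL (ltAll 1) gztn7.pre && planOK gzth_P gzx_P 1 (gztl0.Pt 0) gztn7.plan [gztl0, gztl1, gztl2, gztl3, gztl4, gztl5, gztl6, gztl7, gztl8, gztl9]) = true := by decide +kernel
theorem gl_f3 : (Nat.ble glc3.K 10 && Nat.ble (topK [glc4, glc5, glc7]) glc3.K && Nat.beq (glc3.Pt 0) (gltl3.Pt 0) && Nat.beq (ltAll 2058 [gltl2.Pt 0, gltl1.Pt 0, gltl0.Pt 0]) 0 && kChk gle_P glx_P glc3.K 1 B [gltl2.Pt 0, gltl1.Pt 0, gltl0.Pt 0]) = true := by decide +kernel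
theorem glc0_e_0 : allZ (dent glc0 gle_P (nat_lit 2058)) (nat_lit 0) (nat_lit 111) = true := by decide +kernel
theorem gz_f2 : (Nat.ble gzc2.K 10 && Nat.ble (topK [gzc4, gzc5, gzc7, gzc8]) gzc2.K && Nat.beq (gzc2.Pt 0) (gztl2.Pt 0) && Nat.beq (ltAll 2058 [gztl1.Pt 0, gztl0.Pt 0]) 0 && kChk gze_P gzx_P gzc2.K 1 B [gztl1.Pt 0, gztl0.Pt 0]) = true := by decide +kernel
theorem gltn9_0 : (Nat.ble gltl0.K 20 && Nat.beq (ltAll 2058 []) 0 && kChk gle_P glx_P gltn9.Kn 1 B [] && H16.allL (ltAll 1) gltn9.pre && planOK glth_P glx_P 1 (gltl0.Pt 0) gltn9.plan [gltl0, gltl1, gltl2, gltl3, gltl4, gltl5, gltl6, gltl7]) = true := by decide +kernel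
theorem gz_f1 : (Nat.ble gzc1.K 10 && Nat.ble (topK [gzc2, gzc4, gzc5, gzc7, gzc8]) gzc1.K && Nat.beq (gzc1.Pt 0) (gztl1.Pt 0) && Nat.beq (ltAll 2058 [gztl0.Pt 0]) 0 && kChk gze_P gzx_P gzc1.K 1 B [gztl0.Pt 0]) = true := by decide +kernel
theorem gz_f0 : (Nat.ble gzc0.K 10 && Nat.ble (topK [gzc1, gzc2, gzc4, gzc5, gzc7, gzc8]) gzc0.K && Nat.beq (gzc0.Pt 0) (gztl0.Pt 0) && Nat.beq (ltAll 2058 []) 0 && kChk gze_P gzx_P gzc0.K 1 B []) = true := by decide +kernel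
theorem gl_f2 : (Nat.ble glc2.K 10 && Nat.ble (topK [glc3, glc4, glc5, glc7]) glc2.K && Nat.beq (glc2.Pt 0) (gltl2.Pt 0) && Nat.beq (ltAll 2058 [gltl1.Pt 0, gltl0.Pt 0]) 0 && kChk gle_P glx_P glc2.K 1 B [gltl1.Pt 0, gltl0.Pt 0]) = true := by decide +kernel
theorem gztn5_0 : (Nat.ble gztl1.K 24 && Nat.beq (ltAll 2058 [gztl0.Pt 0]) 0 && kChk gze_P gzx_P gztn5.Kn 1 B [gztl0.Pt 0] && H16.allL (ltAll 1) gztn5.pre && planOK gzth_P gzx_P 1 (gztl1.Pt 0) gztn5.plan [gztl1, gztl2, gztl3, gztl4, gztl5, gztl6, gztl7, gztl8, gztl9]) = true := by decide +kernel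
theorem gl_f0 : (Nat.ble glc0.K 10 && Nat.ble (topK [glc1, glc2, glc3, glc4, glc5, glc7]) glc0.K && Nat.beq (glc0.Pt 0) (gltl0.Pt 0) && Nat.beq (ltAll 2058 []) 0 && kChk gle_P glx_P glc0.K 1 B []) = true := by decide +kernel
theorem gl_f1 : (Nat.ble glc1.K 10 && Nat.ble (topK [glc2, glc3, glc4, glc5, glc7]) glc1.K && Nat.beq (glc1.Pt 0) (gltl1.Pt 0) && Nat.beq (ltAll 2058 [gltl0.Pt 0]) 0 && kChk gle_P glx_P glc1.K 1 B [gltl0.Pt 0]) = true := by decide +kernel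
theorem gltn13_1_0 : allZ (gltn13.ent P glth_P glx_P gltn10y154_P gltr13k_P (nat_lit 12) (nat_lit 1) B gltl2 [gltl3, gltl4, gltl5, gltl6, gltl7] (fun _ => nat_lit 1)) (nat_lit 0) (nat_lit 75) = true := by decide +kernel
theorem gltn6_1_0 : allZ (gltn6.ent P glth_P glx_P gltn5y194_P gltr6k_P (nat_lit 12) (nat_lit 1) B gltl2 [gltl3, gltl4, gltl5, gltl6, gltl7] (fun _ => nat_lit 1)) (nat_lit 0) (nat_lit 75) = true := by decide +kernel
theorem gltn11_1_0 : allZ (gltn11.ent P glth_P glx_P gltn10y123_P gltr11k_P (nat_lit 12) (nat_lit 1) B gltl2 [gltl3, gltl4, gltl5, gltl6, gltl7] (fun _ => nat_lit 1)) (nat_lit 0) (nat_lit 75) = true := by decide +kernel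
theorem gztn3_0 : (Nat.ble gztl4.K 24 && Nat.beq (ltAll 2058 [gztl3.Pt 0, gztl2.Pt 0, gztl1.Pt 0, gztl0.Pt 0]) 0 && kChk gze_P gzx_P gztn3.Kn 1 B [gztl3.Pt 0, gztl2.Pt 0, gztl1.Pt 0, gztl0.Pt 0] && H16.allL (ltAll 1) gztn3.pre && planOK gzth_P gzx_P 1 (gztl4.Pt 0) gztn3.plan [gztl4, gztl5, gztl6, gztl7, gztl8, gztl9]) = true := by decide +kernel
theorem gztn4_0 : (Nat.ble gztl2.K 24 && Nat.beq (ltAll 2058 [gztl1.Pt 0, gztl0.Pt 0]) 0 && kChk gze_P gzx_P gztn4.Kn 1 B [gztl1.Pt 0, gztl0.Pt 0] && H16.allL (ltAll 1) gztn4.pre && planOK gzth_P gzx_P 1 (gztl2.Pt 0) gztn4.plan [gztl2, gztl3, gztl4, gztl5, gztl6, gztl7, gztl8, gztl9]) = true := by decide +kernel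
theorem gltn5_0 : (Nat.ble gltl1.K 20 && Nat.beq (ltAll 2058 [gltl0.Pt 0]) 0 && kChk gle_P glx_P gltn5.Kn 1 B [gltl0.Pt 0] && H16.allL (ltAll 1) gltn5.pre && planOK glth_P glx_P 1 (gltl1.Pt 0) gltn5.plan [gltl1, gltl2, gltl3, gltl4, gltl5, gltl6, gltl7]) = true := by decide +kernel
theorem gztn2_0 : (Nat.ble gztl5.K 24 && Nat.beq (ltAll 2058 [gztl4.Pt 0, gztl3.Pt 0, gztl2.Pt 0, gztl1.Pt 0, gztl0.Pt 0]) 0 && kChk gze_P gzx_P gztn2.Kn 1 B [gztl4.Pt 0, gztl3.Pt 0, gztl2.Pt 0, gztl1.Pt 0, gztl0.Pt 0] && H16.allL (ltAll 1) gztn2.pre && planOK gzth_P gzx_P 1 (gztl5.Pt 0) gztn2.plan [gztl5, gztl6, gztl7, gztl8, gztl9]) = true := by decide +kernel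
theorem gltn4_1_0 : allZ (gltn4.ent P glth_P glx_P glx_P gle_P (nat_lit 12) (nat_lit 1) B gltl2 [gltl3, gltl4, gltl5, gltl6, gltl7] (memO glc2)) (nat_lit 0) (nat_lit 75) = true := by decide +kernel
theorem gltn4_0 : (Nat.ble gltl2.K 20 && Nat.beq (ltAll 2058 [gltl1.Pt 0, gltl0.Pt 0]) 0 && kChk gle_P glx_P gltn4.Kn 1 B [gltl1.Pt 0, gltl0.Pt 0] && H16.allL (ltAll 1) gltn4.pre && planOK glth_P glx_P 1 (gltl2.Pt 0) gltn4.plan [gltl2, gltl3, gltl4, gltl5, gltl6, gltl7]) = true := by decide +kernel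
theorem gltn3_0 : (Nat.ble gltl3.K 20 && Nat.beq (ltAll 2058 [gltl2.Pt 0, gltl1.Pt 0, gltl0.Pt 0]) 0 && kChk gle_P glx_P gltn3.Kn 1 B [gltl2.Pt 0, gltl1.Pt 0, gltl0.Pt 0] && H16.allL (ltAll 1) gltn3.pre && planOK glth_P glx_P 1 (gltl3.Pt 0) gltn3.plan [gltl3, gltl4, gltl5, gltl6, gltl7]) = true := by decide +kernel
theorem gltl2_e_0 : allZ (dent gltl2 glth_P (nat_lit 2058)) (nat_lit 0) (nat_lit 74) = true := by decide +kernel
theorem gztn6_0 : (Nat.ble gztl2.K 24 && Nat.beq (ltAll 2058 [gztl1.Pt 0, gztl0.Pt 0]) 0 && kChk gztr6k_P gztn5y113_P gztn6.Kn 1 B [gztl1.Pt 0, gztl0.Pt 0] && H16.allL (ltAll 1) gztn6.pre && planOK gzth_P gzx_P 1 (gztl2.Pt 0) gztn6.plan [gztl2, gztl3, gztl4, gztl5, gztl6, gztl7, gztl8, gztl9]) = true := by decide +kernel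
theorem gltn14_0 : (Nat.ble gltl3.K 20 && Nat.beq (ltAll 2058 [gltl2.Pt 0, gltl1.Pt 0, gltl0.Pt 0]) 0 && kChk gltr14k_P gltn13y302_P gltn14.Kn 1 B [gltl2.Pt 0, gltl1.Pt 0, gltl0.Pt 0] && H16.allL (ltAll 1) gltn14.pre && planOK glth_P glx_P 1 (gltl3.Pt 0) gltn14.plan [gltl3, gltl4, gltl5, gltl6, gltl7]) = true := by decide +kernel
theorem gltn2_0 : (Nat.ble gltl4.K 20 && Nat.beq (ltAll 2058 [gltl3.Pt 0, gltl2.Pt 0, gltl1.Pt 0, gltl0.Pt 0]) 0 && kChk gle_P glx_P gltn2.Kn 1 B [gltl3.Pt 0, gltl2.Pt 0, gltl1.Pt 0, gltl0.Pt 0] && H16.allL (ltAll 1) gltn2.pre && planOK glth_P glx_P 1 (gltl4.Pt 0) gltn2.plan [gltl4, gltl5, gltl6, gltl7]) = true := by decide +kernel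
theorem gltn6_0 : (Nat.ble gltl2.K 20 && Nat.beq (ltAll 2058 [gltl1.Pt 0, gltl0.Pt 0]) 0 && kChk gltr6k_P gltn5y194_P gltn6.Kn 1 B [gltl1.Pt 0, gltl0.Pt 0] && H16.allL (ltAll 1) gltn6.pre && planOK glth_P glx_P 1 (gltl2.Pt 0) gltn6.plan [gltl2, gltl3, gltl4, gltl5, gltl6, gltl7]) = true := by decide +kernel
theorem gltn13_0 : (Nat.ble gltl2.K 20 && Nat.beq (ltAll 2058 [gltl1.Pt 0, gltl0.Pt 0]) 0 && kChk gltr13k_P gltn10y154_P gltn13.Kn 1 B [gltl1.Pt 0, gltl0.Pt 0] && H16.allL (ltAll 1) gltn13.pre && planOK glth_P glx_P 1 (gltl2.Pt 0) gltn13.plan [gltl2, gltl3, gltl4, gltl5, gltl6, gltl7]) = true := by decide +kernel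
theorem gztn1_0 : (Nat.ble gztl7.K 24 && Nat.beq (ltAll 2058 [gztl6.Pt 0, gztl5.Pt 0, gztl4.Pt 0, gztl3.Pt 0, gztl2.Pt 0, gztl1.Pt 0, gztl0.Pt 0]) 0 && kChk gze_P gzx_P gztn1.Kn 1 B [gztl6.Pt 0, gztl5.Pt 0, gztl4.Pt 0, gztl3.Pt 0, gztl2.Pt 0, gztl1.Pt 0, gztl0.Pt 0] && H16.allL (ltAll 1) gztn1.pre && planOK gzth_P gzx_P 1 (gztl7.Pt 0) gztn1.plan [gztl7, gztl8, gztl9]) = true := by decide +kernel
theorem gltn12_0 : (Nat.ble gltl3.K 20 && Nat.beq (ltAll 2058 [gltl2.Pt 0, gltl1.Pt 0, gltl0.Pt 0]) 0 && kChk gltr12k_P gltn11y757_P gltn12.Kn 1 B [gltl2.Pt 0, gltl1.Pt 0, gltl0.Pt 0] && H16.allL (ltAll 1) gltn12.pre && planOK glth_P glx_P 1 (gltl3.Pt 0) gltn12.plan [gltl3, gltl4, gltl5, gltl6, gltl7]) = true := by decide +kernel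
theorem gltn7_0 : (Nat.ble gltl3.K 20 && Nat.beq (ltAll 2058 [gltl2.Pt 0, gltl1.Pt 0, gltl0.Pt 0]) 0 && kChk gltr7k_P gltn6y892_P gltn7.Kn 1 B [gltl2.Pt 0, gltl1.Pt 0, gltl0.Pt 0] && H16.allL (ltAll 1) gltn7.pre && planOK glth_P glx_P 1 (gltl3.Pt 0) gltn7.plan [gltl3, gltl4, gltl5, gltl6, gltl7]) = true := by decide +kernel
theorem gltn11_0 : (Nat.ble gltl2.K 20 && Nat.beq (ltAll 2058 [gltl1.Pt 0, gltl0.Pt 0]) 0 && kChk gltr11k_P gltn10y123_P gltn11.Kn 1 B [gltl1.Pt 0, gltl0.Pt 0] && H16.allL (ltAll 1) gltn11.pre && planOK glth_P glx_P 1 (gltl2.Pt 0) gltn11.plan [gltl2, gltl3, gltl4, gltl5, gltl6, gltl7]) = true := by decide +kernel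
theorem lol1_e_0 : allZ (dent lol1 lo_P (nat_lit 714)) (nat_lit 0) (nat_lit 255) = true := by decide +kernel
theorem gltn10_0 : (Nat.ble gltl1.K 20 && Nat.beq (ltAll 2058 [gltl0.Pt 0]) 0 && kChk gltr10k_P gltn9y871_P gltn10.Kn 1 B [gltl0.Pt 0] && H16.allL (ltAll 1) gltn10.pre && planOK glth_P glx_P 1 (gltl1.Pt 0) gltn10.plan [gltl1, gltl2, gltl3, gltl4, gltl5, gltl6, gltl7]) = true := by decide +kernel
theorem gzc0_e_0 : allZ (dent gzc0 gze_P (nat_lit 2058)) (nat_lit 0) (nat_lit 41) = true := by decide +kernel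
theorem gltn1_0 : (Nat.ble gltl5.K 20 && Nat.beq (ltAll 2058 [gltl4.Pt 0, gltl3.Pt 0, gltl2.Pt 0, gltl1.Pt 0, gltl0.Pt 0]) 0 && kChk gle_P glx_P gltn1.Kn 1 B [gltl4.Pt 0, gltl3.Pt 0, gltl2.Pt 0, gltl1.Pt 0, gltl0.Pt 0] && H16.allL (ltAll 1) gltn1.pre && planOK glth_P glx_P 1 (gltl5.Pt 0) gltn1.plan [gltl5, gltl6, gltl7]) = true := by decide +kernel
theorem gltn8_0 : (Nat.ble gltl4.K 20 && Nat.beq (ltAll 2058 [gltl3.Pt 0, gltl2.Pt 0, gltl1.Pt 0, gltl0.Pt 0]) 0 && kChk gltr8k_P gltn7y192_P gltn8.Kn 1 B [gltl3.Pt 0, gltl2.Pt 0, gltl1.Pt 0, gltl0.Pt 0] && H16.allL (ltAll 1) gltn8.pre && planOK glth_P glx_P 1 (gltl4.Pt 0) gltn8.plan [gltl4, gltl5, gltl6, gltl7]) = true := by decide +kernel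
theorem gztn0_0 : (Nat.ble gztl8.K 24 && Nat.beq (ltAll 2058 [gztl7.Pt 0, gztl6.Pt 0, gztl5.Pt 0, gztl4.Pt 0, gztl3.Pt 0, gztl2.Pt 0, gztl1.Pt 0, gztl0.Pt 0]) 0 && kChk gze_P gzx_P gztn0.Kn 1 B [gztl7.Pt 0, gztl6.Pt 0, gztl5.Pt 0, gztl4.Pt 0, gztl3.Pt 0, gztl2.Pt 0, gztl1.Pt 0, gztl0.Pt 0] && H16.allL (ltAll 1) gztn0.pre && planOK gzth_P gzx_P 1 (gztl8.Pt 0) gztn0.plan [gztl8, gztl9]) = true := by decide +kernel
theorem gltn0_0 : (Nat.ble gltl7.K 20 && Nat.beq (ltAll 2058 [gltl6.Pt 0, gltl5.Pt 0, gltl4.Pt 0, gltl3.Pt 0, gltl2.Pt 0, gltl1.Pt 0, gltl0.Pt 0]) 0 && kChk gle_P glx_P gltn0.Kn 1 B [gltl6.Pt 0, gltl5.Pt 0, gltl4.Pt 0, gltl3.Pt 0, gltl2.Pt 0, gltl1.Pt 0, gltl0.Pt 0] && H16.allL (ltAll 1) gltn0.pre && planOK glth_P glx_P 1 (gltl7.Pt 0) gltn0.plan [gltl7]) = true := by decide +kernel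
theorem sW_lt : H16.allL (ltAll 7) sW = true := by decide +kernel
theorem yl_lt : H16.allL (ltAll 12) yl_W = true := by decide +kernel
theorem yll0_h : 0 < yll0.n ∧ 0 < yll0.K ∧ yll0.Pt 0 < 2058 ∧ yll0.Q (yll0.Pt 0) = 0 := by decide +kernel
theorem yll1_h : 0 < yll1.n ∧ 0 < yll1.K ∧ yll1.Pt 0 < 2058 ∧ yll1.Q (yll1.Pt 0) = 0 := by decide +kernel
theorem yll2_h : 0 < yll2.n ∧ 0 < yll2.K ∧ yll2.Pt 0 < 2058 ∧ yll2.Q (yll2.Pt 0) = 0 := by decide +kernel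
theorem yll3_h : 0 < yll3.n ∧ 0 < yll3.K ∧ yll3.Pt 0 < 2058 ∧ yll3.Q (yll3.Pt 0) = 0 := by decide +kernel
theorem yc : nth 0 iv 11 = 11 ∧ H16.allL (ltAll 11) xW = true ∧ H16.allL (ltAll (11 + 1)) yl_W = true ∧ chainCard [yll0, yll1, yll2, yll3] = 2 * 4030387200 ∧ chainBase [yll0, yll1, yll2, yll3] = B ∧ ltAll 2058 B = 0 ∧ 4030387200 ≠ 0 := by decide +kernel
theorem gzx_lt : H16.allL (ltAll 12) gzx_W = true := by decide +kernel
theorem gzth_lt : H16.allL (ltAll 12) gzth_W = true := by decide +kernel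
theorem gztl0_h : 0 < gztl0.n ∧ 0 < gztl0.K ∧ gztl0.Pt 0 < 2058 ∧ gztl0.Q (gztl0.Pt 0) = 0 := by decide +kernel
theorem gztl1_h : 0 < gztl1.n ∧ 0 < gztl1.K ∧ gztl1.Pt 0 < 2058 ∧ gztl1.Q (gztl1.Pt 0) = 0 := by decide +kernel
theorem gztl2_h : 0 < gztl2.n ∧ 0 < gztl2.K ∧ gztl2.Pt 0 < 2058 ∧ gztl2.Q (gztl2.Pt 0) = 0 := by decide +kernel
theorem gztl3_h : 0 < gztl3.n ∧ 0 < gztl3.K ∧ gztl3.Pt 0 < 2058 ∧ gztl3.Q (gztl3.Pt 0) = 0 := by decide +kernel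
theorem gztl4_h : 0 < gztl4.n ∧ 0 < gztl4.K ∧ gztl4.Pt 0 < 2058 ∧ gztl4.Q (gztl4.Pt 0) = 0 := by decide +kernel
theorem gztl5_h : 0 < gztl5.n ∧ 0 < gztl5.K ∧ gztl5.Pt 0 < 2058 ∧ gztl5.Q (gztl5.Pt 0) = 0 := by decide +kernel
theorem gztl6_h : 0 < gztl6.n ∧ 0 < gztl6.K ∧ gztl6.Pt 0 < 2058 ∧ gztl6.Q (gztl6.Pt 0) = 0 := by decide +kernel
theorem gztl7_h : 0 < gztl7.n ∧ 0 < gztl7.K ∧ gztl7.Pt 0 < 2058 ∧ gztl7.Q (gztl7.Pt 0) = 0 := by decide +kernel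
theorem gztl8_h : 0 < gztl8.n ∧ 0 < gztl8.K ∧ gztl8.Pt 0 < 2058 ∧ gztl8.Q (gztl8.Pt 0) = 0 := by decide +kernel
theorem gztl9_h : 0 < gztl9.n ∧ 0 < gztl9.K ∧ gztl9.Pt 0 < 2058 ∧ gztl9.Q (gztl9.Pt 0) = 0 := by decide +kernel
theorem gzt_c : chainCard [gztl0, gztl1, gztl2, gztl3, gztl4, gztl5, gztl6, gztl7, gztl8, gztl9] = 8060774400 := by decide +kernel
theorem gze_lt : H16.allL (ltAll 12) gze_W = true := by decide +kernel
theorem gzc8_h : 0 < gzc8.n ∧ 0 < gzc8.K ∧ gzc8.Pt 0 < 2058 ∧ gzc8.Q (gzc8.Pt 0) = 0 := by decide +kernel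
theorem gzc7_h : 0 < gzc7.n ∧ 0 < gzc7.K ∧ gzc7.Pt 0 < 2058 ∧ gzc7.Q (gzc7.Pt 0) = 0 := by decide +kernel
theorem gzc5_h : 0 < gzc5.n ∧ 0 < gzc5.K ∧ gzc5.Pt 0 < 2058 ∧ gzc5.Q (gzc5.Pt 0) = 0 := by decide +kernel
theorem gzc4_h : 0 < gzc4.n ∧ 0 < gzc4.K ∧ gzc4.Pt 0 < 2058 ∧ gzc4.Q (gzc4.Pt 0) = 0 := by decide +kernel
theorem gzc2_h : 0 < gzc2.n ∧ 0 < gzc2.K ∧ gzc2.Pt 0 < 2058 ∧ gzc2.Q (gzc2.Pt 0) = 0 := by decide +kernel
theorem gzc1_h : 0 < gzc1.n ∧ 0 < gzc1.K ∧ gzc1.Pt 0 < 2058 ∧ gzc1.Q (gzc1.Pt 0) = 0 := by decide +kernel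
theorem gztn5y113_lt : H16.allL (ltAll 12) gztn5y113_W = true := by decide +kernel
theorem gztr6k_lt : H16.allL (ltAll 12) gztr6k_W = true := by decide +kernel
theorem gzc0_h : 0 < gzc0.n ∧ 0 < gzc0.K ∧ gzc0.Pt 0 < 2058 ∧ gzc0.Q (gzc0.Pt 0) = 0 := by decide +kernel
theorem gz_c : chainCard [gzc0, gzc1, gzc2, gzc4, gzc5, gzc7, gzc8] = 43008 ∧ topK [gzc0, gzc1, gzc2, gzc4, gzc5, gzc7, gzc8] = 10 := by decide +kernel
theorem glx_lt : H16.allL (ltAll 12) glx_W = true := by decide +kernel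
theorem glth_lt : H16.allL (ltAll 12) glth_W = true := by decide +kernel
theorem gltl0_h : 0 < gltl0.n ∧ 0 < gltl0.K ∧ gltl0.Pt 0 < 2058 ∧ gltl0.Q (gltl0.Pt 0) = 0 := by decide +kernel
theorem gltl1_h : 0 < gltl1.n ∧ 0 < gltl1.K ∧ gltl1.Pt 0 < 2058 ∧ gltl1.Q (gltl1.Pt 0) = 0 := by decide +kernel
theorem gltl2_h : 0 < gltl2.n ∧ 0 < gltl2.K ∧ gltl2.Pt 0 < 2058 ∧ gltl2.Q (gltl2.Pt 0) = 0 := by decide +kernel
theorem gltl3_h : 0 < gltl3.n ∧ 0 < gltl3.K ∧ gltl3.Pt 0 < 2058 ∧ gltl3.Q (gltl3.Pt 0) = 0 := by decide +kernel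
theorem gltl4_h : 0 < gltl4.n ∧ 0 < gltl4.K ∧ gltl4.Pt 0 < 2058 ∧ gltl4.Q (gltl4.Pt 0) = 0 := by decide +kernel
theorem gltl5_h : 0 < gltl5.n ∧ 0 < gltl5.K ∧ gltl5.Pt 0 < 2058 ∧ gltl5.Q (gltl5.Pt 0) = 0 := by decide +kernel
theorem gltl6_h : 0 < gltl6.n ∧ 0 < gltl6.K ∧ gltl6.Pt 0 < 2058 ∧ gltl6.Q (gltl6.Pt 0) = 0 := by decide +kernel
theorem gltl7_h : 0 < gltl7.n ∧ 0 < gltl7.K ∧ gltl7.Pt 0 < 2058 ∧ gltl7.Q (gltl7.Pt 0) = 0 := by decide +kernel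
theorem glt_c : chainCard [gltl0, gltl1, gltl2, gltl3, gltl4, gltl5, gltl6, gltl7] = 8060774400 := by decide +kernel
theorem gle_lt : H16.allL (ltAll 12) gle_W = true := by decide +kernel
theorem glc7_h : 0 < glc7.n ∧ 0 < glc7.K ∧ glc7.Pt 0 < 2058 ∧ glc7.Q (glc7.Pt 0) = 0 := by decide +kernel
theorem glc5_h : 0 < glc5.n ∧ 0 < glc5.K ∧ glc5.Pt 0 < 2058 ∧ glc5.Q (glc5.Pt 0) = 0 := by decide +kernel
theorem glc4_h : 0 < glc4.n ∧ 0 < glc4.K ∧ glc4.Pt 0 < 2058 ∧ glc4.Q (glc4.Pt 0) = 0 := by decide +kernel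
theorem glc3_h : 0 < glc3.n ∧ 0 < glc3.K ∧ glc3.Pt 0 < 2058 ∧ glc3.Q (glc3.Pt 0) = 0 := by decide +kernel
theorem glc2_h : 0 < glc2.n ∧ 0 < glc2.K ∧ glc2.Pt 0 < 2058 ∧ glc2.Q (glc2.Pt 0) = 0 := by decide +kernel
theorem glc1_h : 0 < glc1.n ∧ 0 < glc1.K ∧ glc1.Pt 0 < 2058 ∧ glc1.Q (glc1.Pt 0) = 0 := by decide +kernel
theorem gltn5y194_lt : H16.allL (ltAll 12) gltn5y194_W = true := by decide +kernel
theorem gltr6k_lt : H16.allL (ltAll 12) gltr6k_W = true := by decide +kernel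
theorem gltn6y892_lt : H16.allL (ltAll 12) gltn6y892_W = true := by decide +kernel
theorem gltr7k_lt : H16.allL (ltAll 12) gltr7k_W = true := by decide +kernel
theorem gltn7y192_lt : H16.allL (ltAll 12) gltn7y192_W = true := by decide +kernel
theorem gltr8k_lt : H16.allL (ltAll 12) gltr8k_W = true := by decide +kernel
theorem glc0_h : 0 < glc0.n ∧ 0 < glc0.K ∧ glc0.Pt 0 < 2058 ∧ glc0.Q (glc0.Pt 0) = 0 := by decide +kernel
theorem gltn9y871_lt : H16.allL (ltAll 12) gltn9y871_W = true := by decide +kernel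
theorem gltr10k_lt : H16.allL (ltAll 12) gltr10k_W = true := by decide +kernel
theorem gltn10y123_lt : H16.allL (ltAll 12) gltn10y123_W = true := by decide +kernel
theorem gltr11k_lt : H16.allL (ltAll 12) gltr11k_W = true := by decide +kernel
theorem gltn11y757_lt : H16.allL (ltAll 12) gltn11y757_W = true := by decide +kernel
theorem gltr12k_lt : H16.allL (ltAll 12) gltr12k_W = true := by decide +kernel
theorem gltn10y154_lt : H16.allL (ltAll 12) gltn10y154_W = true := by decide +kernel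
theorem gltr13k_lt : H16.allL (ltAll 12) gltr13k_W = true := by decide +kernel
theorem gltn13y302_lt : H16.allL (ltAll 12) gltn13y302_W = true := by decide +kernel
theorem gltr14k_lt : H16.allL (ltAll 12) gltr14k_W = true := by decide +kernel
theorem gl_c : chainCard [glc0, glc1, glc2, glc3, glc4, glc5, glc7] = 322560 ∧ topK [glc0, glc1, glc2, glc3, glc4, glc5, glc7] = 10 := by decide +kernel
theorem m_lt : H16.allL (ltAll 12) mW = true := by decide +kernel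
theorem resb : neL B (B1.map E) = 0 ∧ ltAll 714 B1 = 0 := by decide +kernel
theorem lo_lt : H16.allL (ltAll 6) lo_W = true := by decide +kernel
theorem lol0_h : 0 < lol0.n ∧ 0 < lol0.K ∧ lol0.Pt 0 < 714 ∧ lol0.Q (lol0.Pt 0) = 0 := by decide +kernel
theorem lol1_h : 0 < lol1.n ∧ 0 < lol1.K ∧ lol1.Pt 0 < 714 ∧ lol1.Q (lol1.Pt 0) = 0 := by decide +kernel
theorem lol2_h : 0 < lol2.n ∧ 0 < lol2.K ∧ lol2.Pt 0 < 714 ∧ lol2.Q (lol2.Pt 0) = 0 := by decide +kernel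
theorem lo_c : chainCard [lol0, lol1, lol2] = 43008 ∧ topK [lol0, lol1, lol2] = 8 := by decide +kernel
theorem gz_f9 : (Nat.ble gztl9.K 24 && Nat.blt (nat_lit 8) 2058 && fixLetters gzth_P gztl9.K (nat_lit 8) && Nat.beq (ltAll 1 [nat_lit 0]) 0 && Nat.beq (apW gzx_P [nat_lit 0] (nat_lit 8)) (gztl9.Pt 0)) = true := by decide +kernel
theorem gz_f6 : (Nat.ble gztl6.K 24 && Nat.blt (nat_lit 98) 2058 && fixLetters gzth_P gztl6.K (nat_lit 98) && Nat.beq (ltAll 1 [nat_lit 0]) 0 && Nat.beq (apW gzx_P [nat_lit 0] (nat_lit 98)) (gztl6.Pt 0)) = true := by decide +kernel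
theorem gz_f3 : (Nat.ble gztl3.K 24 && Nat.blt (nat_lit 63) 2058 && fixLetters gzth_P gztl3.K (nat_lit 63) && Nat.beq (ltAll 1 [nat_lit 0]) 0 && Nat.beq (apW gzx_P [nat_lit 0] (nat_lit 63)) (gztl3.Pt 0)) = true := by decide +kernel
theorem gzt_f9 : (Nat.ble gztl9.K 24 && Nat.ble (topK []) gztl9.K && fixLetters gzth_P (topK []) (gztl9.Pt 0)) = true := by decide +kernel
theorem gzt_f8 : (Nat.ble gztl8.K 24 && Nat.ble (topK [gztl9]) gztl8.K && fixLetters gzth_P (topK [gztl9]) (gztl8.Pt 0)) = true := by decide +kernel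
theorem gzt_f7 : (Nat.ble gztl7.K 24 && Nat.ble (topK [gztl8, gztl9]) gztl7.K && fixLetters gzth_P (topK [gztl8, gztl9]) (gztl7.Pt 0)) = true := by decide +kernel
theorem gzt_f6 : (Nat.ble gztl6.K 24 && Nat.ble (topK [gztl7, gztl8, gztl9]) gztl6.K && fixLetters gzth_P (topK [gztl7, gztl8, gztl9]) (gztl6.Pt 0)) = true := by decide +kernel
theorem gzt_f5 : (Nat.ble gztl5.K 24 && Nat.ble (topK [gztl6, gztl7, gztl8, gztl9]) gztl5.K && fixLetters gzth_P (topK [gztl6, gztl7, gztl8, gztl9]) (gztl5.Pt 0)) = true := by decide +kernel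
theorem gzt_f4 : (Nat.ble gztl4.K 24 && Nat.ble (topK [gztl5, gztl6, gztl7, gztl8, gztl9]) gztl4.K && fixLetters gzth_P (topK [gztl5, gztl6, gztl7, gztl8, gztl9]) (gztl4.Pt 0)) = true := by decide +kernel
theorem gzt_f3 : (Nat.ble gztl3.K 24 && Nat.ble (topK [gztl4, gztl5, gztl6, gztl7, gztl8, gztl9]) gztl3.K && fixLetters gzth_P (topK [gztl4, gztl5, gztl6, gztl7, gztl8, gztl9]) (gztl3.Pt 0)) = true := by decide +kernel
theorem gzt_f2 : (Nat.ble gztl2.K 24 && Nat.ble (topK [gztl3, gztl4, gztl5, gztl6, gztl7, gztl8, gztl9]) gztl2.K && fixLetters gzth_P (topK [gztl3, gztl4, gztl5, gztl6, gztl7, gztl8, gztl9]) (gztl2.Pt 0)) = true := by decide +kernel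
theorem gzt_f1 : (Nat.ble gztl1.K 24 && Nat.ble (topK [gztl2, gztl3, gztl4, gztl5, gztl6, gztl7, gztl8, gztl9]) gztl1.K && fixLetters gzth_P (topK [gztl2, gztl3, gztl4, gztl5, gztl6, gztl7, gztl8, gztl9]) (gztl1.Pt 0)) = true := by decide +kernel
theorem gzt_f0 : (Nat.ble gztl0.K 24 && Nat.ble (topK [gztl1, gztl2, gztl3, gztl4, gztl5, gztl6, gztl7, gztl8, gztl9]) gztl0.K && fixLetters gzth_P (topK [gztl1, gztl2, gztl3, gztl4, gztl5, gztl6, gztl7, gztl8, gztl9]) (gztl0.Pt 0)) = true := by decide +kernel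
theorem gltn7_1_0 : allZ (gltn7.ent P glth_P glx_P gltn6y892_P gltr7k_P (nat_lit 12) (nat_lit 1) B gltl3 [gltl4, gltl5, gltl6, gltl7] (fun _ => nat_lit 1)) (nat_lit 0) (nat_lit 2) = true := by decide +kernel
theorem glc1_e_0 : allZ (dent glc1 gle_P (nat_lit 2058)) (nat_lit 0) (nat_lit 11) = true := by decide +kernel
theorem gztn6_1_0 : allZ (gztn6.ent P gzth_P gzx_P gztn5y113_P gztr6k_P (nat_lit 12) (nat_lit 1) B gztl2 [gztl3, gztl4, gztl5, gztl6, gztl7, gztl8, gztl9] (fun _ => nat_lit 1)) (nat_lit 0) (nat_lit 8) = true := by decide +kernel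
theorem gl_f6 : (Nat.ble gltl6.K 20 && Nat.blt (nat_lit 64) 2058 && fixLetters glth_P gltl6.K (nat_lit 64) && Nat.beq (ltAll 1 [nat_lit 0]) 0 && Nat.beq (apW glx_P [nat_lit 0] (nat_lit 64)) (gltl6.Pt 0)) = true := by decide +kernel
theorem glt_f7 : (Nat.ble gltl7.K 20 && Nat.ble (topK []) gltl7.K && fixLetters glth_P (topK []) (gltl7.Pt 0)) = true := by decide +kernel
theorem glt_f6 : (Nat.ble gltl6.K 20 && Nat.ble (topK [gltl7]) gltl6.K && fixLetters glth_P (topK [gltl7]) (gltl6.Pt 0)) = true := by decide +kernel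
theorem glt_f5 : (Nat.ble gltl5.K 20 && Nat.ble (topK [gltl6, gltl7]) gltl5.K && fixLetters glth_P (topK [gltl6, gltl7]) (gltl5.Pt 0)) = true := by decide +kernel
theorem glt_f4 : (Nat.ble gltl4.K 20 && Nat.ble (topK [gltl5, gltl6, gltl7]) gltl4.K && fixLetters glth_P (topK [gltl5, gltl6, gltl7]) (gltl4.Pt 0)) = true := by decide +kernel
theorem glt_f3 : (Nat.ble gltl3.K 20 && Nat.ble (topK [gltl4, gltl5, gltl6, gltl7]) gltl3.K && fixLetters glth_P (topK [gltl4, gltl5, gltl6, gltl7]) (gltl3.Pt 0)) = true := by decide +kernel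
theorem glt_f2 : (Nat.ble gltl2.K 20 && Nat.ble (topK [gltl3, gltl4, gltl5, gltl6, gltl7]) gltl2.K && fixLetters glth_P (topK [gltl3, gltl4, gltl5, gltl6, gltl7]) (gltl2.Pt 0)) = true := by decide +kernel
theorem glt_f1 : (Nat.ble gltl1.K 20 && Nat.ble (topK [gltl2, gltl3, gltl4, gltl5, gltl6, gltl7]) gltl1.K && fixLetters glth_P (topK [gltl2, gltl3, gltl4, gltl5, gltl6, gltl7]) (gltl1.Pt 0)) = true := by decide +kernel
theorem glt_f0 : (Nat.ble gltl0.K 20 && Nat.ble (topK [gltl1, gltl2, gltl3, gltl4, gltl5, gltl6, gltl7]) gltl0.K && fixLetters glth_P (topK [gltl1, gltl2, gltl3, gltl4, gltl5, gltl6, gltl7]) (gltl0.Pt 0)) = true := by decide +kernel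
theorem lol0_e_0 : allZ (dent lol0 lo_P (nat_lit 714)) (nat_lit 0) (nat_lit 41) = true := by decide +kernel
theorem gztl2_e_0 : allZ (dent gztl2 gzth_P (nat_lit 2058)) (nat_lit 0) (nat_lit 7) = true := by decide +kernel
theorem gzc1_e_0 : allZ (dent gzc1 gze_P (nat_lit 2058)) (nat_lit 0) (nat_lit 7) = true := by decide +kernel
theorem gztn4_1_0 : allZ (gztn4.ent P gzth_P gzx_P gzx_P gze_P (nat_lit 12) (nat_lit 1) B gztl2 [gztl3, gztl4, gztl5, gztl6, gztl7, gztl8, gztl9] (memO gzc2)) (nat_lit 0) (nat_lit 8) = true := by decide +kernel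
theorem yll3_e_0 : allZ (dent yll3 yl_P (nat_lit 2058)) (nat_lit 0) (nat_lit 11) = true := by decide +kernel
theorem yl_f3 : (Nat.ble yll3.K 16 && Nat.ble (topK []) yll3.K && fixLetters yl_P (topK []) (yll3.Pt 0)) = true := by decide +kernel
theorem yl_f2 : (Nat.ble yll2.K 16 && Nat.ble (topK [yll3]) yll2.K && fixLetters yl_P (topK [yll3]) (yll2.Pt 0)) = true := by decide +kernel
theorem yl_f1 : (Nat.ble yll1.K 16 && Nat.ble (topK [yll2, yll3]) yll1.K && fixLetters yl_P (topK [yll2, yll3]) (yll1.Pt 0)) = true := by decide +kernel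
theorem yl_f0 : (Nat.ble yll0.K 16 && Nat.ble (topK [yll1, yll2, yll3]) yll0.K && fixLetters yl_P (topK [yll1, yll2, yll3]) (yll0.Pt 0)) = true := by decide +kernel
theorem glc2_e_0 : allZ (dent glc2 gle_P (nat_lit 2058)) (nat_lit 0) (nat_lit 4) = true := by decide +kernel
theorem gztn1_1_0 : allZ (gztn1.ent P gzth_P gzx_P gzx_P gze_P (nat_lit 12) (nat_lit 1) B gztl7 [gztl8, gztl9] (memO gzc7)) (nat_lit 0) (nat_lit 4) = true := by decide +kernel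
theorem gltl6_e_0 : allZ (dent gltl6 glth_P (nat_lit 2058)) (nat_lit 0) (nat_lit 3) = true := by decide +kernel
theorem glc5_e_0 : allZ (dent glc5 gle_P (nat_lit 2058)) (nat_lit 0) (nat_lit 3) = true := by decide +kernel
theorem gztl5_e_0 : allZ (dent gztl5 gzth_P (nat_lit 2058)) (nat_lit 0) (nat_lit 3) = true := by decide +kernel
theorem gztl7_e_0 : allZ (dent gztl7 gzth_P (nat_lit 2058)) (nat_lit 0) (nat_lit 3) = true := by decide +kernel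
theorem gzc5_e_0 : allZ (dent gzc5 gze_P (nat_lit 2058)) (nat_lit 0) (nat_lit 3) = true := by decide +kernel
theorem gzc2_e_0 : allZ (dent gzc2 gze_P (nat_lit 2058)) (nat_lit 0) (nat_lit 3) = true := by decide +kernel
theorem gltn14_1_0 : allZ (gltn14.ent P glth_P glx_P gltn13y302_P gltr14k_P (nat_lit 12) (nat_lit 1) B gltl3 [gltl4, gltl5, gltl6, gltl7] (fun _ => nat_lit 1)) (nat_lit 0) (nat_lit 2) = true := by decide +kernel
theorem gltn8_1_0 : allZ (gltn8.ent P glth_P glx_P gltn7y192_P gltr8k_P (nat_lit 12) (nat_lit 1) B gltl4 [gltl5, gltl6, gltl7] (fun _ => nat_lit 1)) (nat_lit 0) (nat_lit 2) = true := by decide +kernel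
theorem gltn12_1_0 : allZ (gltn12.ent P glth_P glx_P gltn11y757_P gltr12k_P (nat_lit 12) (nat_lit 1) B gltl3 [gltl4, gltl5, gltl6, gltl7] (fun _ => nat_lit 1)) (nat_lit 0) (nat_lit 2) = true := by decide +kernel
theorem gztl3_e_0 : allZ (dent gztl3 gzth_P (nat_lit 2058)) (nat_lit 0) (nat_lit 2) = true := by decide +kernel
theorem gltl5_e_0 : allZ (dent gltl5 glth_P (nat_lit 2058)) (nat_lit 0) (nat_lit 3) = true := by decide +kernel
theorem gltl7_e_0 : allZ (dent gltl7 glth_P (nat_lit 2058)) (nat_lit 0) (nat_lit 2) = true := by decide +kernel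
theorem glc7_e_0 : allZ (dent glc7 gle_P (nat_lit 2058)) (nat_lit 0) (nat_lit 2) = true := by decide +kernel
theorem gztl6_e_0 : allZ (dent gztl6 gzth_P (nat_lit 2058)) (nat_lit 0) (nat_lit 2) = true := by decide +kernel
theorem gztn2_1_0 : allZ (gztn2.ent P gzth_P gzx_P gzx_P gze_P (nat_lit 12) (nat_lit 1) B gztl5 [gztl6, gztl7, gztl8, gztl9] (memO gzc5)) (nat_lit 0) (nat_lit 4) = true := by decide +kernel
theorem gltn1_1_0 : allZ (gltn1.ent P glth_P glx_P glx_P gle_P (nat_lit 12) (nat_lit 1) B gltl5 [gltl6, gltl7] (memO glc5)) (nat_lit 0) (nat_lit 4) = true := by decide +kernel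
theorem gltn0_1_0 : allZ (gltn0.ent P glth_P glx_P glx_P gle_P (nat_lit 12) (nat_lit 1) B gltl7 [] (memO glc7)) (nat_lit 0) (nat_lit 3) = true := by decide +kernel
theorem gztl8_e_0 : allZ (dent gztl8 gzth_P (nat_lit 2058)) (nat_lit 0) (nat_lit 1) = true := by decide +kernel
theorem gztl9_e_0 : allZ (dent gztl9 gzth_P (nat_lit 2058)) (nat_lit 0) (nat_lit 1) = true := by decide +kernel
theorem gzc8_e_0 : allZ (dent gzc8 gze_P (nat_lit 2058)) (nat_lit 0) (nat_lit 1) = true := by decide +kernel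
theorem gztl4_e_0 : allZ (dent gztl4 gzth_P (nat_lit 2058)) (nat_lit 0) (nat_lit 1) = true := by decide +kernel
theorem gzc4_e_0 : allZ (dent gzc4 gze_P (nat_lit 2058)) (nat_lit 0) (nat_lit 1) = true := by decide +kernel
theorem gltl3_e_0 : allZ (dent gltl3 glth_P (nat_lit 2058)) (nat_lit 0) (nat_lit 1) = true := by decide +kernel
theorem gltl4_e_0 : allZ (dent gltl4 glth_P (nat_lit 2058)) (nat_lit 0) (nat_lit 1) = true := by decide +kernel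
theorem glc3_e_0 : allZ (dent glc3 gle_P (nat_lit 2058)) (nat_lit 0) (nat_lit 1) = true := by decide +kernel
theorem glc4_e_0 : allZ (dent glc4 gle_P (nat_lit 2058)) (nat_lit 0) (nat_lit 1) = true := by decide +kernel
theorem gzc7_e_0 : allZ (dent gzc7 gze_P (nat_lit 2058)) (nat_lit 0) (nat_lit 1) = true := by decide +kernel
theorem gztn0_1_0 : allZ (gztn0.ent P gzth_P gzx_P gzx_P gze_P (nat_lit 12) (nat_lit 1) B gztl8 [gztl9] (memO gzc8)) (nat_lit 0) (nat_lit 2) = true := by decide +kernel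
theorem gztn3_1_0 : allZ (gztn3.ent P gzth_P gzx_P gzx_P gze_P (nat_lit 12) (nat_lit 1) B gztl4 [gztl5, gztl6, gztl7, gztl8, gztl9] (memO gzc4)) (nat_lit 0) (nat_lit 2) = true := by decide +kernel
theorem gltn2_1_0 : allZ (gltn2.ent P glth_P glx_P glx_P gle_P (nat_lit 12) (nat_lit 1) B gltl4 [gltl5, gltl6, gltl7] (memO glc4)) (nat_lit 0) (nat_lit 2) = true := by decide +kernel
theorem gltn3_1_0 : allZ (gltn3.ent P glth_P glx_P glx_P gle_P (nat_lit 12) (nat_lit 1) B gltl3 [gltl4, gltl5, gltl6, gltl7] (memO glc3)) (nat_lit 0) (nat_lit 2) = true := by decide +kernel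
theorem lo_f2 : (Nat.ble lol2.K 8 && Nat.ble (topK []) lol2.K && fixLetters lo_P (topK []) (lol2.Pt 0)) = true := by decide +kernel
theorem lo_f1 : (Nat.ble lol1.K 8 && Nat.ble (topK [lol2]) lol1.K && fixLetters lo_P (topK [lol2]) (lol1.Pt 0)) = true := by decide +kernel
theorem lo_f0 : (Nat.ble lol0.K 8 && Nat.ble (topK [lol1, lol2]) lol0.K && fixLetters lo_P (topK [lol1, lol2]) (lol0.Pt 0)) = true := by decide +kernel
theorem lol2_e_0 : allZ (dent lol2 lo_P (nat_lit 714)) (nat_lit 0) (nat_lit 3) = true := by decide +kernel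

end H15.NS.He
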